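import Cfsg.Agent.H482.Ore.Fix
import Cfsg.Agent.H934.MF.Diag

/-!
# Fixed points of `s₀ φ(X)` on the unipotent radicals (S2443, S4171)

* `nf_gen` : an element of `D.group K` conjugate by an element of the Levi subgroup over `K'` to an element of the torus
  with nontrivial characters outside `J`;
* `Bk` : the data of a block of type `A_{n+1}` over `K` and `K'`;
* `Bk.conj` : `φ(X)` becomes an element of the torus over `K'`;
* `Dz` : products of commuting blocks and elements of the torus (`Dz.torus`, `Bk.dz`, `Dz.mul`, `Dz.nf`);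
* `nf_block`, `nf_block'` : the fixed points of `s₀ φ(X)` and `φ(X)`.
-/

set_option autoImplicit false
set_option linter.unusedSectionVars false

namespace Cfsg.Agent.H482.Ore.Fix

open CoxeterSystem Cfsg.Agent.ChevalleyStructure.CoxeterGeom Cfsg.Agent.Tits.Roots Cfsg.Agent.Tits.Core
  Cfsg.Agent.Nodes.Reps Cfsg.Agent.Nodes.BNOf Cfsg.Agent.Nodes.RGDLib Cfsg.Agent.Nodes.Bruhat
  Cfsg.Agent.Nodes.OppDec Cfsg.Agent.Nodes.LeviDec Cfsg.Agent.Nodes.KindChev Cfsg.Agent.Nodes.ChevCls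
  Cfsg.Agent.OddHalf.NI.Mult Cfsg.Agent.OddHalf.NI.ModelChev
  Cfsg.Agent.H162.GaussDec Cfsg.Agent.H162.GaussLevi Cfsg.Agent.H162.GaussSL Cfsg.Agent.H162.GaussReg
  Cfsg.Agent.H162.GaussMain Cfsg.Agent.H162.GaussPQ Cfsg.Agent.H162.GaussExc
open Cfsg.Lie Cfsg.Agent.ChevalleyStructure Cfsg.Agent.ChevalleyStructure.Elts
  Cfsg.Agent.ChevalleyStructure.RootVec Cfsg.Agent.ChevalleyStructure.NPerm
  Cfsg.Agent.ChevalleyStructure.CoxeterGeomTypes Cfsg.Agent.Nodes.RGDChev Cfsg.Agent.KFacts.RgdChevCoord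
open Cfsg.Agent.H928.Ore.Frame Matrix

universe u v

variable {D : ChevalleyDatum} {l : ℕ} {M : CoxeterMatrix (Fin l)} (hp : IsType D l M)

section gen

variable {K : Type u} {K' : Type v} [Field K] [Field K']

/-- **Fixed points by base change.** -/
theorem nf_gen [Finite K'] (p : ℕ) [Fact p.Prime] [CharP K' p] (f : K →+* K') {J : Set (Fin l)}
    {c : ↥(D.group K)} {y t : ↥(D.group K')} (hy : y ∈ LJ M.toCoxeterSystem hp.isCartan (TT D K') (XX D l K') J)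
    (hyt : y * bc D f c * y⁻¹ = t) (ht : t ∈ TT D K')
    (hout : ∀ q < D.nroots, (∃ k, k ∉ J ∧ vec D l q k ≠ 0) → ch hp (vec D l q) t ≠ 1) :
    NF (VJ M.toCoxeterSystem hp.isCartan (XX D l K) J) c ∧ NF (VNJ M.toCoxeterSystem hp.isCartan (XX D l K) J) c := by
  obtain ⟨h1, h2⟩ := nf_torus hp p ht hout
  have := finite_W hp M.toCoxeterSystem
  have R := rgd (K := K') hp M.toCoxeterSystem p
  rw [← hyt] at h1 h2
  exact ⟨nf_of_bc hp f (NF.of_conj (LJ_le_normalizer_VJ R J hy) h1),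
    nfn_of_bc hp f (NF.of_conj (LJ_le_normalizer_VNJ R J hy) h2)⟩

theorem ch_mul {q : ℕ} (hq : q < D.nroots) {a b : ↥(D.group K)} (ha : a ∈ TT D K) (hb : b ∈ TT D K) :
    ch hp (vec D l q) (a * b) = ch hp (vec D l q) a * ch hp (vec D l q) b := by
  have h5 := map_mul (chH hp (K := K) hq) ⟨_, ha⟩ ⟨_, hb⟩
  exact h5

end gen

/-- a block of type `A_{n+1}` with its simple roots and the homomorphisms over `K` and `K'` -/
structure Bk {D : ChevalleyDatum} {l : ℕ} {M : CoxeterMatrix (Fin l)} (hp : IsType D l M) {K : Type u} {K' : Type v}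
    [Field K] [Field K'] (f : K →+* K') (J : Set (Fin l)) (n : ℕ) (r : Fin (n + 2) → Fin (n + 2) → ℕ)
    (j : Fin (n + 1) → Fin l) (φ : SpecialLinearGroup (Fin (n + 2)) K →* ↥(D.group K))
    (φ' : SpecialLinearGroup (Fin (n + 2)) K' →* ↥(D.group K')) (s : Fin (n + 2) → Fin (n + 2) → K) : Prop where
  simp : SimpB D l n r j
  rlt : ∀ a b, a ≠ b → r a b < D.nroots
  rJ : ∀ a b, a ≠ b → ∀ k, k ∉ J → vec D l (r a b) k = 0
  hφ : ∀ a b (hab : a ≠ b) c, φ (SpecialLinearGroup.transvection hab c) = xc hp (vec D l (r a b)) (s a b * c)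
  hφ' : ∀ a b (hab : a ≠ b) c, φ' (SpecialLinearGroup.transvection hab c) = xc hp (vec D l (r a b)) (f (s a b) * c)
  ss : ∀ a : Fin (n + 1), s a.castSucc a.succ * s a.succ a.castSucc = 1

section blk

variable {K : Type u} {K' : Type v} [Field K] [Field K'] {f : K →+* K'} {J : Set (Fin l)} {n : ℕ}
  {r : Fin (n + 2) → Fin (n + 2) → ℕ} {j : Fin (n + 1) → Fin l}
  {φ : SpecialLinearGroup (Fin (n + 2)) K →* ↥(D.group K)}
  {φ' : SpecialLinearGroup (Fin (n + 2)) K' →* ↥(D.group K')} {s : Fin (n + 2) → Fin (n + 2) → K}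
  (B : Bk hp f J n r j φ φ' s)

include B

theorem Bk.bc_phi (X : SpecialLinearGroup (Fin (n + 2)) K) :
    bc D f (φ X) = φ' (SpecialLinearGroup.map f X) := by
  have h1 : (bc D f).comp φ = φ'.comp (SpecialLinearGroup.map f) := by
    refine hom_ext fun a b hab c => ?_
    change bc D f (φ _) = φ' (SpecialLinearGroup.map f _)
    have h2 : SpecialLinearGroup.map f (SpecialLinearGroup.transvection hab c) =
        SpecialLinearGroup.transvection hab (f c) := by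
      apply Subtype.ext
      change ((1 : Matrix (Fin (n + 2)) (Fin (n + 2)) K) + single a b c).map f = 1 + single a b (f c)
      rw [Matrix.map_add f (map_add f), Matrix.map_one f (map_zero f) (map_one f), Matrix.map_single]
    rw [h2, B.hφ, B.hφ', bc_xc hp f (B.rlt a b hab), map_mul]
  exact DFunLike.congr_fun h1 X

theorem Bk.comm {t : ↥(D.group K')} (ht : t ∈ TT D K') (h1 : ∀ a b, a ≠ b → ch hp (vec D l (r a b)) t = 1)
    (A : SpecialLinearGroup (Fin (n + 2)) K') : t * φ' A = φ' A * t := by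
  have h2 : (MulAut.conj t).toMonoidHom.comp φ' = φ' := by
    refine hom_ext fun a b hab c => ?_
    change t * φ' _ * t⁻¹ = φ' _
    rw [B.hφ', (act hp (B.rlt a b hab) ht).2, h1 a b hab, one_mul]
  have h3 := DFunLike.congr_fun h2 A
  change t * φ' A * t⁻¹ = φ' A at h3
  calc t * φ' A = (t * φ' A * t⁻¹) * t := by group
    _ = φ' A * t := by rw [h3]

theorem Bk.mem (A : SpecialLinearGroup (Fin (n + 2)) K') :
    φ' A ∈ LJ M.toCoxeterSystem hp.isCartan (TT D K') (XX D l K') J := by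
  have h1 : (⊤ : Subgroup (SpecialLinearGroup (Fin (n + 2)) K')) ≤
      (LJ M.toCoxeterSystem hp.isCartan (TT D K') (XX D l K') J).comap φ' := by
    rw [← Cfsg.Agent.LieClassical.SLGen.closure_transvections, Subgroup.closure_le]
    rintro _ ⟨a, b, hab, c, rfl⟩
    change φ' _ ∈ LJ M.toCoxeterSystem hp.isCartan (TT D K') (XX D l K') J
    rw [B.hφ']
    refine X_le_LJ (J := J) (x := vec D l (r a b)) ⟨isRoot_vec hp _ (B.rlt a b hab), B.rJ a b hab⟩ ?_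
    exact (mem_XX hp (B.rlt a b hab) _).2 ⟨_, rfl⟩
  exact h1 (Subgroup.mem_top A)

/-- the diagonal matrix -/
theorem Bk.diag {lam : Fin (n + 2) → K'} (hl : ∏ b, lam b = 1) :
    φ' (dgl lam hl) ∈ TT D K' ∧ ∀ q, (hq : q < D.nroots) → ch hp (vec D l q) (φ' (dgl lam hl)) =
      ∏ b, lam b ^ wt D j q b := by
  have h0 : ∀ b, lam b ≠ 0 := by
    intro b hb
    rw [Finset.prod_eq_zero (Finset.mem_univ b) hb] at hl
    exact zero_ne_one hl
  have h1 : ∏ b, (Units.mk0 (lam b) (h0 b)) = 1 := by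
    apply Units.ext
    rw [Units.coe_prod, Units.val_one, ← hl]
    rfl
  have h2 := phi_diag hp B.simp (φ := φ') (s := fun a b => f (s a b)) B.hφ'
    (fun a => by rw [← map_mul, B.ss a, map_one]) (fun b => Units.mk0 (lam b) (h0 b)) h1
  exact h2

/-- `φ(X)` becomes an element of the torus over `K'` -/
theorem Bk.conj {X : SpecialLinearGroup (Fin (n + 2)) K} {lam : Fin (n + 2) → K'} {g : GL (Fin (n + 2)) K'}
    (hX : (X : Matrix (Fin (n + 2)) (Fin (n + 2)) K).map f = (g : Matrix (Fin (n + 2)) (Fin (n + 2)) K') *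
      diagonal lam * ((g⁻¹ : GL (Fin (n + 2)) K') : Matrix (Fin (n + 2)) (Fin (n + 2)) K')) :
    ∃ (hl : ∏ b, lam b = 1) (A : SpecialLinearGroup (Fin (n + 2)) K'),
      φ' A * bc D f (φ X) * (φ' A)⁻¹ = φ' (dgl lam hl) := by
  have hl : ∏ b, lam b = 1 := by
    have h1 := congrArg Matrix.det hX
    have h2 : ((X : Matrix (Fin (n + 2)) (Fin (n + 2)) K).map f).det = 1 := (SpecialLinearGroup.map f X).2
    have h3 : (g : Matrix (Fin (n + 2)) (Fin (n + 2)) K').det *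
        ((g⁻¹ : GL (Fin (n + 2)) K') : Matrix (Fin (n + 2)) (Fin (n + 2)) K').det = 1 := by
      rw [← det_mul, ← Units.val_mul, mul_inv_cancel, Units.val_one, det_one]
    rw [h2, det_mul, det_mul, det_diagonal, mul_right_comm, h3, one_mul] at h1
    exact h1.symm
  obtain ⟨d, A, hA⟩ := exists_dd g⁻¹
  refine ⟨hl, A, ?_⟩
  rw [B.bc_phi, ← map_inv, ← map_mul, ← map_mul]
  congr 1
  -- the conjugate
  have h1 : (A : GL (Fin (n + 2)) K') = (dd (n + 1) d)⁻¹ * g⁻¹ := by rw [hA]; group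
  have h2 : ((A : GL (Fin (n + 2)) K'))⁻¹ = g * dd (n + 1) d := by rw [h1]; group
  have h3 : (A : GL (Fin (n + 2)) K').1 = ((dd (n + 1) d)⁻¹ : GL (Fin (n + 2)) K').1 * (g⁻¹ : GL (Fin (n + 2)) K').1 := by
    rw [h1]; rfl
  have h4 : (((A : GL (Fin (n + 2)) K'))⁻¹ : GL (Fin (n + 2)) K').1 = g.1 * (dd (n + 1) d).1 := by
    rw [h2]; rfl
  have h5 : (g⁻¹ : GL (Fin (n + 2)) K').1 * g.1 = 1 := by rw [← Units.val_mul, inv_mul_cancel, Units.val_one]
  have h6 : ((dd (n + 1) d)⁻¹ : GL (Fin (n + 2)) K').1 * (diagonal lam * (dd (n + 1) d).1) = diagonal lam := by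
    change diagonal _ * (diagonal _ * diagonal _) = _
    rw [diagonal_mul_diagonal, diagonal_mul_diagonal]
    congr 1
    funext i
    by_cases h : i = 0 <;> simp [h]
    field_simp
  apply Subtype.ext
  change A.1 * (X : Matrix (Fin (n + 2)) (Fin (n + 2)) K).map f * (A⁻¹).1 = diagonal lam
  rw [hX]
  have h7 : (A⁻¹).1 = (((A : GL (Fin (n + 2)) K'))⁻¹ : GL (Fin (n + 2)) K').1 := rfl
  have h8 : A.1 = (A : GL (Fin (n + 2)) K').1 := rfl
  rw [h7, h8, h3, h4]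
  calc _ = ((dd (n + 1) d)⁻¹ : GL (Fin (n + 2)) K').1 * ((g⁻¹ : GL (Fin (n + 2)) K').1 * g.1) *
        diagonal lam * ((g⁻¹ : GL (Fin (n + 2)) K').1 * g.1) * (dd (n + 1) d).1 := by
          simp only [Matrix.mul_assoc]
    _ = diagonal lam := by rw [h5, Matrix.mul_one, Matrix.mul_one, Matrix.mul_assoc, h6]

end blk

/-! ### Products of commuting blocks -/

section dz

variable {K : Type u} {K' : Type v} [Field K] [Field K']

/-- `c` becomes an element of the torus over `K'`, with characters `χ`; everything in the subgroup `R` -/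
structure Dz {D : ChevalleyDatum} {l : ℕ} {M : CoxeterMatrix (Fin l)} (hp : IsType D l M) {K : Type u} {K' : Type v}
    [Field K] [Field K'] (f : K →+* K') (J : Set (Fin l)) (R : Subgroup ↥(D.group K')) (c : ↥(D.group K))
    (χ : ℕ → K') : Prop where
  mem : bc D f c ∈ R
  ex : ∃ y ∈ R, y ∈ LJ M.toCoxeterSystem hp.isCartan (TT D K') (XX D l K') J ∧ y * bc D f c * y⁻¹ ∈ TT D K' ∧
    ∀ q < D.nroots, ch hp (vec D l q) (y * bc D f c * y⁻¹) = χ q

variable {f : K →+* K'} {J : Set (Fin l)}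

theorem Dz.nf [Finite K'] (p : ℕ) [Fact p.Prime] [CharP K' p] {R : Subgroup ↥(D.group K')} {c : ↥(D.group K)}
    {χ : ℕ → K'} (h : Dz hp f J R c χ) (hout : ∀ q < D.nroots, (∃ k, k ∉ J ∧ vec D l q k ≠ 0) → χ q ≠ 1) :
    NF (VJ M.toCoxeterSystem hp.isCartan (XX D l K) J) c ∧ NF (VNJ M.toCoxeterSystem hp.isCartan (XX D l K) J) c := by
  obtain ⟨y, -, hy, ht, hch⟩ := h.ex
  refine nf_gen hp p f hy rfl ht fun q hq hk => ?_
  rw [hch q hq]
  exact hout q hq hk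

theorem Dz.mul {R₁ R₂ : Subgroup ↥(D.group K')} {c₁ c₂ : ↥(D.group K)} {χ₁ χ₂ : ℕ → K'} (h₁ : Dz hp f J R₁ c₁ χ₁)
    (h₂ : Dz hp f J R₂ c₂ χ₂) (hc : ∀ x ∈ R₁, ∀ y ∈ R₂, x * y = y * x) :
    Dz hp f J (R₁ ⊔ R₂) (c₁ * c₂) (fun q => χ₁ q * χ₂ q) where
  mem := by
    rw [map_mul]
    exact mul_mem (Subgroup.mem_sup_left h₁.mem) (Subgroup.mem_sup_right h₂.mem)
  ex := by
    obtain ⟨y₁, hy₁, hL₁, ht₁, hch₁⟩ := h₁.ex
    obtain ⟨y₂, hy₂, hL₂, ht₂, hch₂⟩ := h₂.ex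
    have e : y₁ * y₂ * bc D f (c₁ * c₂) * (y₁ * y₂)⁻¹ = (y₁ * bc D f c₁ * y₁⁻¹) * (y₂ * bc D f c₂ * y₂⁻¹) := by
      have e1 := hc _ h₁.mem _ hy₂
      have e2 := hc _ hy₁ _ (mul_mem (mul_mem hy₂ h₂.mem) (inv_mem hy₂))
      rw [map_mul]
      calc y₁ * y₂ * (bc D f c₁ * bc D f c₂) * (y₁ * y₂)⁻¹
          = y₁ * (y₂ * bc D f c₁) * bc D f c₂ * y₂⁻¹ * y₁⁻¹ := by group
        _ = y₁ * bc D f c₁ * y₁⁻¹ * (y₁ * (y₂ * bc D f c₂ * y₂⁻¹)) * y₁⁻¹ := by rw [← e1]; group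
        _ = _ := by rw [e2]; group
    refine ⟨y₁ * y₂, mul_mem (Subgroup.mem_sup_left hy₁) (Subgroup.mem_sup_right hy₂), mul_mem hL₁ hL₂, ?_, ?_⟩
    · rw [e]
      exact mul_mem ht₁ ht₂
    · intro q hq
      rw [e, ch_mul hp hq ht₁ ht₂, hch₁ q hq, hch₂ q hq]

/-- an element of the torus -/
theorem Dz.torus {s₀ : ↥(D.group K)} (h0 : s₀ ∈ TT D K) :
    Dz hp f J (Subgroup.zpowers (bc D f s₀)) s₀ (fun q => f (ch hp (vec D l q) s₀)) where
  mem := Subgroup.mem_zpowers _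
  ex := by
    refine ⟨1, one_mem _, one_mem _, ?_, fun q hq => ?_⟩
    · rw [one_mul, inv_one, mul_one]
      exact bc_TT hp f h0
    · rw [one_mul, inv_one, mul_one]
      exact ch_bc hp f hq h0

/-- one block -/
theorem Bk.dz {n : ℕ} {r : Fin (n + 2) → Fin (n + 2) → ℕ} {j : Fin (n + 1) → Fin l}
    {φ : SpecialLinearGroup (Fin (n + 2)) K →* ↥(D.group K)}
    {φ' : SpecialLinearGroup (Fin (n + 2)) K' →* ↥(D.group K')} {s : Fin (n + 2) → Fin (n + 2) → K}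
    (B : Bk hp f J n r j φ φ' s) {X : SpecialLinearGroup (Fin (n + 2)) K} {lam : Fin (n + 2) → K'}
    {g : GL (Fin (n + 2)) K'}
    (hX : (X : Matrix (Fin (n + 2)) (Fin (n + 2)) K).map f = (g : Matrix (Fin (n + 2)) (Fin (n + 2)) K') *
      diagonal lam * ((g⁻¹ : GL (Fin (n + 2)) K') : Matrix (Fin (n + 2)) (Fin (n + 2)) K')) :
    Dz hp f J φ'.range (φ X) (fun q => ∏ b, lam b ^ wt D j q b) where
  mem := by
    rw [B.bc_phi]
    exact ⟨_, rfl⟩
  ex := by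
    obtain ⟨hl, A, hA⟩ := B.conj hp hX
    obtain ⟨h1, h2⟩ := B.diag hp hl
    refine ⟨φ' A, ⟨A, rfl⟩, B.mem hp A, ?_, ?_⟩
    · rw [hA]; exact h1
    · rw [hA]; exact h2

/-- the torus commutes with a block -/
theorem Bk.comm_range {n : ℕ} {r : Fin (n + 2) → Fin (n + 2) → ℕ} {j : Fin (n + 1) → Fin l}
    {φ : SpecialLinearGroup (Fin (n + 2)) K →* ↥(D.group K)}
    {φ' : SpecialLinearGroup (Fin (n + 2)) K' →* ↥(D.group K')} {s : Fin (n + 2) → Fin (n + 2) → K}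
    (B : Bk hp f J n r j φ φ' s) {s₀ : ↥(D.group K)} (h0 : s₀ ∈ TT D K)
    (h1 : ∀ a b, a ≠ b → ch hp (vec D l (r a b)) s₀ = 1) :
    ∀ x ∈ Subgroup.zpowers (bc D f s₀), ∀ y ∈ φ'.range, x * y = y * x := by
  rintro _ ⟨k, rfl⟩ _ ⟨A, rfl⟩
  have h2 := B.comm hp (bc_TT hp f h0) (fun a b hab => by rw [ch_bc hp f (B.rlt a b hab) h0, h1 a b hab, map_one]) A
  exact (Commute.zpow_left (show Commute _ _ from h2) k)

/-- two blocks with commuting root subgroups -/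
theorem Bk.comm_range₂ {n : ℕ} {r : Fin (n + 2) → Fin (n + 2) → ℕ} {j : Fin (n + 1) → Fin l}
    {φ : SpecialLinearGroup (Fin (n + 2)) K →* ↥(D.group K)}
    {φ' : SpecialLinearGroup (Fin (n + 2)) K' →* ↥(D.group K')} {s : Fin (n + 2) → Fin (n + 2) → K}
    (B : Bk hp f J n r j φ φ' s)
    {n₂ : ℕ} {r₂ : Fin (n₂ + 2) → Fin (n₂ + 2) → ℕ} {j₂ : Fin (n₂ + 1) → Fin l}
    {φ₂ : SpecialLinearGroup (Fin (n₂ + 2)) K →* ↥(D.group K)}
    {φ₂' : SpecialLinearGroup (Fin (n₂ + 2)) K' →* ↥(D.group K')} {s₂ : Fin (n₂ + 2) → Fin (n₂ + 2) → K}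
    (B₂ : Bk hp f J n₂ r₂ j₂ φ₂ φ₂' s₂)
    (hc : ∀ a b, a ≠ b → ∀ c d, c ≠ d → ∀ x y : K',
      xc hp (vec D l (r a b)) x * xc hp (vec D l (r₂ c d)) y = xc hp (vec D l (r₂ c d)) y * xc hp (vec D l (r a b)) x) :
    ∀ x ∈ φ'.range, ∀ y ∈ φ₂'.range, x * y = y * x := by
  have h1 : ∀ a b (hab : a ≠ b) (x : K') (A : SpecialLinearGroup (Fin (n₂ + 2)) K'),
      xc hp (vec D l (r a b)) x * φ₂' A = φ₂' A * xc hp (vec D l (r a b)) x := by
    intro a b hab x A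
    have h2 : (MulAut.conj (xc hp (vec D l (r a b)) x)).toMonoidHom.comp φ₂' = φ₂' := by
      refine hom_ext fun c d hcd y => ?_
      change xc hp (vec D l (r a b)) x * φ₂' _ * (xc hp (vec D l (r a b)) x)⁻¹ = φ₂' _
      rw [B₂.hφ', hc a b hab c d hcd, mul_inv_cancel_right]
    have h3 := DFunLike.congr_fun h2 A
    change xc hp (vec D l (r a b)) x * φ₂' A * (xc hp (vec D l (r a b)) x)⁻¹ = φ₂' A at h3
    rw [← h3]
    rw [h3]
    exact mul_inv_eq_iff_eq_mul.1 h3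
  rintro _ ⟨A₁, rfl⟩ _ ⟨A, rfl⟩
  have h2 : (MulAut.conj (φ₂' A)).toMonoidHom.comp φ' = φ' := by
    refine hom_ext fun a b hab y => ?_
    change φ₂' A * φ' _ * (φ₂' A)⁻¹ = φ' _
    rw [B.hφ', ← h1 a b hab, mul_inv_cancel_right]
  have h3 := DFunLike.congr_fun h2 A₁
  change φ₂' A * φ' A₁ * (φ₂' A)⁻¹ = φ' A₁ at h3
  exact (mul_inv_eq_iff_eq_mul.1 h3).symm

omit hp in
theorem comm_sup {Y : Type*} [Group Y] {R₁ R₂ R₃ : Subgroup Y} (h₁ : ∀ x ∈ R₁, ∀ y ∈ R₃, x * y = y * x)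
    (h₂ : ∀ x ∈ R₂, ∀ y ∈ R₃, x * y = y * x) : ∀ x ∈ R₁ ⊔ R₂, ∀ y ∈ R₃, x * y = y * x := by
  have h3 : R₁ ⊔ R₂ ≤ Subgroup.centralizer (R₃ : Set Y) := by
    refine sup_le (fun x hx => ?_) fun x hx => ?_
    · rw [Subgroup.mem_centralizer_iff]
      exact fun y hy => (h₁ x hx y hy).symm
    · rw [Subgroup.mem_centralizer_iff]
      exact fun y hy => (h₂ x hx y hy).symm
  intro x hx y hy
  exact (Subgroup.mem_centralizer_iff.1 (h3 hx) y hy).symm

/-- **Fixed points of `s₀ φ(X)`.** -/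
theorem nf_block [Finite K'] (p : ℕ) [Fact p.Prime] [CharP K' p] {n : ℕ} {r : Fin (n + 2) → Fin (n + 2) → ℕ}
    {j : Fin (n + 1) → Fin l} {φ : SpecialLinearGroup (Fin (n + 2)) K →* ↥(D.group K)}
    {φ' : SpecialLinearGroup (Fin (n + 2)) K' →* ↥(D.group K')} {s : Fin (n + 2) → Fin (n + 2) → K}
    (B : Bk hp f J n r j φ φ' s) {s₀ : ↥(D.group K)} (h0 : s₀ ∈ TT D K)
    (h1 : ∀ a b, a ≠ b → ch hp (vec D l (r a b)) s₀ = 1)
    {X : SpecialLinearGroup (Fin (n + 2)) K} {lam : Fin (n + 2) → K'} {g : GL (Fin (n + 2)) K'}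
    (hX : (X : Matrix (Fin (n + 2)) (Fin (n + 2)) K).map f = (g : Matrix (Fin (n + 2)) (Fin (n + 2)) K') *
      diagonal lam * ((g⁻¹ : GL (Fin (n + 2)) K') : Matrix (Fin (n + 2)) (Fin (n + 2)) K'))
    (hout : ∀ q < D.nroots, (∃ k, k ∉ J ∧ vec D l q k ≠ 0) →
      f (ch hp (vec D l q) s₀) * ∏ b, lam b ^ wt D j q b ≠ 1) :
    NF (VJ M.toCoxeterSystem hp.isCartan (XX D l K) J) (s₀ * φ X) ∧
      NF (VNJ M.toCoxeterSystem hp.isCartan (XX D l K) J) (s₀ * φ X) :=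
  ((Dz.torus hp h0).mul hp (B.dz hp hX) (B.comm_range hp h0 h1)).nf hp p hout

/-- **Fixed points of `φ(X)`.** -/
theorem nf_block' [Finite K'] (p : ℕ) [Fact p.Prime] [CharP K' p] {n : ℕ} {r : Fin (n + 2) → Fin (n + 2) → ℕ}
    {j : Fin (n + 1) → Fin l} {φ : SpecialLinearGroup (Fin (n + 2)) K →* ↥(D.group K)}
    {φ' : SpecialLinearGroup (Fin (n + 2)) K' →* ↥(D.group K')} {s : Fin (n + 2) → Fin (n + 2) → K}
    (B : Bk hp f J n r j φ φ' s)
    {X : SpecialLinearGroup (Fin (n + 2)) K} {lam : Fin (n + 2) → K'} {g : GL (Fin (n + 2)) K'}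
    (hX : (X : Matrix (Fin (n + 2)) (Fin (n + 2)) K).map f = (g : Matrix (Fin (n + 2)) (Fin (n + 2)) K') *
      diagonal lam * ((g⁻¹ : GL (Fin (n + 2)) K') : Matrix (Fin (n + 2)) (Fin (n + 2)) K'))
    (hout : ∀ q < D.nroots, (∃ k, k ∉ J ∧ vec D l q k ≠ 0) → ∏ b, lam b ^ wt D j q b ≠ 1) :
    NF (VJ M.toCoxeterSystem hp.isCartan (XX D l K) J) (φ X) ∧
      NF (VNJ M.toCoxeterSystem hp.isCartan (XX D l K) J) (φ X) :=
  (B.dz hp hX).nf hp p hout

end dz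

end Cfsg.Agent.H482.Ore.Fix
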