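import Cfsg.Agent.H928.Ore.Frame
import Cfsg.Agent.H162.GaussExc
import Cfsg.Agent.ChevalleyStructure.FieldIso

/-!
Base change `D.group K → D.group K'` and fixed points of elements of Levi subgroups (S2443, S4171).

* `bc`, `bc_xc`, `bc_TT`, `ch_bc`, `bc_VJ`, `bc_VNJ` : base change and its effect on root elements, the torus, unipotent radicals;
* `NF.of_pow` : fixed points of a power.
-/

set_option autoImplicit false
set_option linter.unusedSectionVars false

namespace Cfsg.Agent.H482.Ore.Fix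

open CoxeterSystem Cfsg.Agent.ChevalleyStructure.CoxeterGeom Cfsg.Agent.Tits.Roots Cfsg.Agent.Tits.Core
  Cfsg.Agent.Nodes.Reps Cfsg.Agent.Nodes.BNOf Cfsg.Agent.Nodes.RGDLib Cfsg.Agent.Nodes.Bruhat
  Cfsg.Agent.Nodes.OppDec Cfsg.Agent.Nodes.LeviDec Cfsg.Agent.Nodes.KindChev Cfsg.Agent.Nodes.ChevCls
  Cfsg.Agent.OddHalf.NI.Mult Cfsg.Agent.OddHalf.NI.ModelChev
  Cfsg.Agent.H162.GaussDec Cfsg.Agent.H162.GaussLevi Cfsg.Agent.H162.GaussSL Cfsg.Agent.H162.GaussReg
  Cfsg.Agent.H162.GaussMain Cfsg.Agent.H162.GaussPQ Cfsg.Agent.H162.GaussExc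
open Cfsg.Lie Cfsg.Agent.ChevalleyStructure Cfsg.Agent.ChevalleyStructure.Elts
  Cfsg.Agent.ChevalleyStructure.RootVec Cfsg.Agent.ChevalleyStructure.NPerm
  Cfsg.Agent.ChevalleyStructure.CoxeterGeomTypes Cfsg.Agent.Nodes.RGDChev Cfsg.Agent.KFacts.RgdChevCoord
open Cfsg.Agent.H928.Ore.Frame

universe u v

/-- fixed points of a power -/
theorem NF.of_pow {Y : Type*} [Group Y] {V : Subgroup Y} {c : Y} (k : ℕ) (h : NF V (c ^ k)) : NF V c :=
  fun x hx hc => h x hx (conj_pow_fix hc k)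

/-- conjugation by an element normalizing `V` -/
theorem NF.of_conj {Y : Type*} [Group Y] {V : Subgroup Y} {c y : Y} (hy : y ∈ Subgroup.normalizer (V : Set Y))
    (h : NF V (y * c * y⁻¹)) : NF V c := by
  intro x hx hc
  have h1 := h (y * x * y⁻¹) ((Subgroup.mem_normalizer_iff.1 hy x).1 hx) (by
    calc y * c * y⁻¹ * (y * x * y⁻¹) * (y * c * y⁻¹)⁻¹ = y * (c * x * c⁻¹) * y⁻¹ := by group
      _ = _ := by rw [hc])
  have h2 : x = y⁻¹ * (y * x * y⁻¹) * y := by group
  rw [h2, h1]; group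

variable (D : ChevalleyDatum) {l : ℕ} {M : CoxeterMatrix (Fin l)} (hp : IsType D l M)
variable {K : Type u} {K' : Type v} [Field K] [Field K']

theorem map_group_le (f : K →+* K') :
    (D.group K).map (Matrix.GeneralLinearGroup.map (n := D.Idx) f) ≤ D.group K' := by
  rw [ChevalleyDatum.group, MonoidHom.map_closure, ChevalleyDatum.group]
  refine Subgroup.closure_mono ?_
  rintro _ ⟨h, ⟨r, t, hh⟩, rfl⟩
  refine ⟨r, f t, ?_⟩
  change ((h : Matrix D.Idx D.Idx K)).map f = _
  rw [hh]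
  exact FieldIso.map_xMat D f r t

/-- the base change homomorphism -/
noncomputable def bc (f : K →+* K') : ↥(D.group K) →* ↥(D.group K') :=
  ((Matrix.GeneralLinearGroup.map (n := D.Idx) f).comp (D.group K).subtype).codRestrict (D.group K')
    fun x => map_group_le D f ⟨x, x.2, rfl⟩

variable {D}

theorem coe_bc (f : K →+* K') (g : ↥(D.group K)) :
    (((bc D f g : ↥(D.group K')) : GL D.Idx K') : Matrix D.Idx D.Idx K') =
      (((g : GL D.Idx K) : Matrix D.Idx D.Idx K)).map f := rfl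

theorem bc_injective (f : K →+* K') : Function.Injective (bc D f) := by
  intro x y h
  have h1 := congrArg (fun g : ↥(D.group K') => ((g : GL D.Idx K') : Matrix D.Idx D.Idx K')) h
  change (((x : GL D.Idx K) : Matrix D.Idx D.Idx K)).map f = (((y : GL D.Idx K) : Matrix D.Idx D.Idx K)).map f at h1
  apply Subtype.ext
  apply Units.ext
  exact Matrix.map_injective f.injective h1

theorem coe_xG' {r : ℕ} (hr : r < D.nroots) (t : K) :
    (((xc hp (vec D l r) t : ↥(D.group K)) : GL D.Idx K) : Matrix D.Idx D.Idx K) = D.xMat K ⟨r, hr⟩ t := by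
  rw [coe_xc hp hr, coe_xG, x_of_lt hr]

theorem bc_xc (f : K →+* K') {r : ℕ} (hr : r < D.nroots) (t : K) :
    bc D f (xc hp (vec D l r) t) = xc hp (vec D l r) (f t) := by
  apply Subtype.ext
  apply Units.ext
  rw [coe_bc, coe_xG' hp hr, coe_xG' hp hr]
  exact FieldIso.map_xMat D f _ t

theorem map_xG (f : K →+* K') (hD : InList D) {r : ℕ} (hr : r < D.nroots) (t : K) :
    Matrix.GeneralLinearGroup.map (n := D.Idx) f (xG hD r t) = xG hD r (f t) := by
  apply Units.ext
  change (((xG hD r t : GL D.Idx K) : Matrix D.Idx D.Idx K)).map f = _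
  rw [coe_xG, coe_xG, x_of_lt hr, x_of_lt hr]
  exact FieldIso.map_xMat D f _ t

theorem map_nG (f : K →+* K') (hD : InList D) {r : ℕ} (hr : r < D.nroots) (t : K) :
    Matrix.GeneralLinearGroup.map (n := D.Idx) f (nG hD r t) = nG hD r (f t) := by
  rw [nG_def, nG_def, map_mul, map_mul, map_xG f hD hr, map_xG f hD (neg_lt hD hr), map_neg, map_inv₀]

theorem map_hG (f : K →+* K') (hD : InList D) {r : ℕ} (hr : r < D.nroots) (t : K) :
    Matrix.GeneralLinearGroup.map (n := D.Idx) f (hG hD r t) = hG hD r (f t) := by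
  rw [hG_def, hG_def, map_mul, map_nG f hD hr, map_nG f hD hr, map_neg, map_one]

include hp in
theorem bc_TT (f : K →+* K') {t : ↥(D.group K)} (ht : t ∈ TT D K) : bc D f t ∈ TT D K' := by
  have h1 : D.diagonalSubgroup K ≤ (D.diagonalSubgroup K').comap (Matrix.GeneralLinearGroup.map (n := D.Idx) f) := by
    rw [ChevalleyDatum.diagonalSubgroup, Subgroup.closure_le]
    rintro g ⟨r, t, hr, ht, hg⟩
    rw [← eq_hG_iff hp.inList] at hg
    subst hg
    change Matrix.GeneralLinearGroup.map (n := D.Idx) f (hG hp.inList r t) ∈ D.diagonalSubgroup K'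
    rw [map_hG f hp.inList hr]
    exact hG_mem_diagonal hp.inList hr ((map_ne_zero f).2 ht)
  exact h1 ht

theorem ch_bc (f : K →+* K') {r : ℕ} (hr : r < D.nroots) {t : ↥(D.group K)} (ht : t ∈ TT D K) :
    ch hp (vec D l r) (bc D f t) = f (ch hp (vec D l r) t) := by
  refine ch_eq hp hr (bc_TT hp f ht) ?_
  have h1 := congrArg (bc D f) ((act hp hr ht).2 1)
  rw [map_mul, map_mul, map_inv, bc_xc hp f hr, bc_xc hp f hr, map_one, mul_one] at h1
  exact h1

theorem bc_Sup (f : K →+* K') {S : Set (Fin l → ℤ)} (hS : ∀ x ∈ S, IsRoot M.toCoxeterSystem hp.isCartan x)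
    {a : ↥(D.group K)} (ha : a ∈ RGD.Sup (XX D l K) S) : bc D f a ∈ RGD.Sup (XX D l K') S := by
  have h1 : RGD.Sup (XX D l K) S ≤ (RGD.Sup (XX D l K') S).comap (bc D f) := by
    refine RGD.Sup_le fun x hx => ?_
    obtain ⟨r, hr, rfl⟩ := (isRoot_iff hp _ x).1 (hS x hx)
    intro y hy
    obtain ⟨c, rfl⟩ := (mem_XX hp hr y).1 hy
    rw [Subgroup.mem_comap, bc_xc hp f hr]
    exact RGD.le_Sup hx ((mem_XX hp hr _).2 ⟨_, rfl⟩)
  exact h1 ha

theorem bc_VJ (f : K →+* K') {J : Set (Fin l)} {a : ↥(D.group K)}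
    (ha : a ∈ VJ M.toCoxeterSystem hp.isCartan (XX D l K) J) :
    bc D f a ∈ VJ M.toCoxeterSystem hp.isCartan (XX D l K') J :=
  bc_Sup hp f (fun _ hx => hx.1) ha

theorem bc_VNJ (f : K →+* K') {J : Set (Fin l)} {a : ↥(D.group K)}
    (ha : a ∈ VNJ M.toCoxeterSystem hp.isCartan (XX D l K) J) :
    bc D f a ∈ VNJ M.toCoxeterSystem hp.isCartan (XX D l K') J :=
  bc_Sup hp f (fun x hx => by
    have h1 := (show -x ∈ Cfsg.Agent.Nodes.StabComb.NotJ M.toCoxeterSystem hp.isCartan J from hx).1.neg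
    have h2 : - -x = x := by ext k; simp
    rwa [h2] at h1) ha

theorem nf_of_bc (f : K →+* K') {J : Set (Fin l)} {c : ↥(D.group K)}
    (h : NF (VJ M.toCoxeterSystem hp.isCartan (XX D l K') J) (bc D f c)) :
    NF (VJ M.toCoxeterSystem hp.isCartan (XX D l K) J) c := by
  intro x hx hc
  have h1 := h _ (bc_VJ hp f hx) (by rw [← map_inv, ← map_mul, ← map_mul, hc])
  exact bc_injective f (by rw [h1, map_one])

theorem nfn_of_bc (f : K →+* K') {J : Set (Fin l)} {c : ↥(D.group K)}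
    (h : NF (VNJ M.toCoxeterSystem hp.isCartan (XX D l K') J) (bc D f c)) :
    NF (VNJ M.toCoxeterSystem hp.isCartan (XX D l K) J) c := by
  intro x hx hc
  have h1 := h _ (bc_VNJ hp f hx) (by rw [← map_inv, ← map_mul, ← map_mul, hc])
  exact bc_injective f (by rw [h1, map_one])

/-- an element of the torus without trivial characters outside `J` has no fixed points -/
theorem nf_torus [Finite K] (p : ℕ) [Fact p.Prime] [CharP K p] {J : Set (Fin l)} {t : ↥(D.group K)} (ht : t ∈ TT D K)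
    (hout : ∀ q < D.nroots, (∃ k, k ∉ J ∧ vec D l q k ≠ 0) → ch hp (vec D l q) t ≠ 1) :
    NF (VJ M.toCoxeterSystem hp.isCartan (XX D l K) J) t ∧ NF (VNJ M.toCoxeterSystem hp.isCartan (XX D l K) J) t := by
  have hf : NoFix M.toCoxeterSystem hp.isCartan (XX D l K) J t := by
    intro x hx hk a ha hsa
    obtain ⟨r, hr, rfl⟩ := (isRoot_iff hp _ x).1 hx
    obtain ⟨c, rfl⟩ := (mem_XX hp hr a).1 ha
    rw [(act hp hr ht).2] at hsa
    have h3 := xc_inj hp hr hsa
    by_cases hc : c = 0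
    · rw [hc, xc_zero hp hr]
    · exfalso
      apply hout r hr hk
      exact mul_right_cancel₀ hc (by rw [h3, one_mul])
  have := finite_W hp M.toCoxeterSystem
  have R := rgd (K := K) hp M.toCoxeterSystem p
  exact ⟨fun x hx hc => fix_VJ R ht hf hx hc, fun x hx hc => fix_VNJ R ht hf hx hc⟩

end Cfsg.Agent.H482.Ore.Fix
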