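import Cfsg.Agent.H482.Ore.Bc

/-!
# Fixed points of `s₀ φ(X)` on the unipotent radicals, by base change (S2443, S4171)

`φ : SL_{n+2}(K) → D.group K` with root elements `φ(1 + c E_ab) = x_{r a b}(s_ab c)`; `X` is diagonalizable over `K'` with
eigenvalues `lam b`.  `wt D j q b = ∑_{a ≥ b} ⟨q, α_{j a}^∨⟩` is the exponent of `lam b` in the character of the root `q`.

* `SimpB` : the simple roots of the block;
* `nf_block` : no fixed points if all the characters of the roots outside `J` are non-trivial;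
* `exists_diag` : a matrix whose characteristic polynomial has distinct roots in `K'` is diagonalizable over `K'`.
-/

set_option autoImplicit false
set_option linter.unusedSectionVars false

namespace Cfsg.Agent.H482.Ore.Fix

open CoxeterSystem Cfsg.Agent.ChevalleyStructure.CoxeterGeom Cfsg.Agent.Tits.Roots Cfsg.Agent.Tits.Core
  Cfsg.Agent.Nodes.Reps Cfsg.Agent.Nodes.BNOf Cfsg.Agent.Nodes.RGDLib Cfsg.Agent.Nodes.Bruhat
  Cfsg.Agent.Nodes.OppDec Cfsg.Agent.Nodes.LeviDec Cfsg.Agent.Nodes.KindChev Cfsg.Agent.Nodes.ChevCls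
  Cfsg.Agent.OddHalf.NI.Mult Cfsg.Agent.OddHalf.NI.ModelChev
  Cfsg.Agent.H162.GaussDec Cfsg.Agent.H162.GaussLevi Cfsg.Agent.H162.GaussSL Cfsg.Agent.H162.GaussReg
  Cfsg.Agent.H162.GaussMain Cfsg.Agent.H162.GaussPQ Cfsg.Agent.H162.GaussExc
open Cfsg.Lie Cfsg.Agent.ChevalleyStructure Cfsg.Agent.ChevalleyStructure.Elts
  Cfsg.Agent.ChevalleyStructure.RootVec Cfsg.Agent.ChevalleyStructure.NPerm
  Cfsg.Agent.ChevalleyStructure.CoxeterGeomTypes Cfsg.Agent.Nodes.RGDChev Cfsg.Agent.KFacts.RgdChevCoord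
open Cfsg.Agent.H928.Ore.Frame Matrix
open Cfsg.Agent.FixBN.FieldRGD (uu vv dd ww)

universe u v

/-! ### Diagonal matrices -/

section diag

variable {K : Type u} [Field K] {m : ℕ}

/-- the diagonal matrix in `SL` -/
def dgl (lam : Fin m → K) (h : ∏ b, lam b = 1) : SpecialLinearGroup (Fin m) K :=
  ⟨diagonal lam, by rw [det_diagonal, h]⟩

theorem tv_mulVec {a b : Fin m} (hab : a ≠ b) (c : K) (x : Fin m → K) :
    (SpecialLinearGroup.transvection hab c).1 *ᵥ x = Function.update x a (x a + c * x b) := by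
  change (1 + single a b c) *ᵥ x = _
  rw [add_mulVec, one_mulVec]
  funext k
  rw [Pi.add_apply]
  by_cases hk : k = a
  · subst hk
    rw [Function.update_self]
    congr 1
    simp [mulVec, dotProduct, single_apply]
  · rw [Function.update_of_ne hk]
    have : (single a b c *ᵥ x) k = 0 := by
      simp [mulVec, dotProduct, single_apply, Ne.symm hk]
    rw [this, add_zero]

/-- `diag(.., u, u⁻¹, ..)` -/
def hab' (a b : Fin m) (hab : a ≠ b) (u : Kˣ) : SpecialLinearGroup (Fin m) K :=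
  dgl (fun k => if k = a then (u : K) else if k = b then ((u⁻¹ : Kˣ) : K) else 1) (by
    rw [← Finset.mul_prod_erase _ _ (Finset.mem_univ a), if_pos rfl,
      ← Finset.mul_prod_erase _ _ (Finset.mem_erase.2 ⟨hab.symm, Finset.mem_univ b⟩), if_neg hab.symm, if_pos rfl]
    rw [Finset.prod_eq_one, mul_one, ← Units.val_mul, mul_inv_cancel, Units.val_one]
    intro k hk
    rw [Finset.mem_erase, Finset.mem_erase] at hk
    rw [if_neg hk.2.1, if_neg hk.1])

theorem hab_word {a b : Fin m} (hab : a ≠ b) (u : Kˣ) :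
    hab' a b hab u = SpecialLinearGroup.transvection hab (u : K) *
      (SpecialLinearGroup.transvection hab.symm (-((u : K)⁻¹)) *
      (SpecialLinearGroup.transvection hab (u : K) * (SpecialLinearGroup.transvection hab (-1 : K) *
      (SpecialLinearGroup.transvection hab.symm (1 : K) * SpecialLinearGroup.transvection hab (-1 : K))))) := by
  apply Subtype.ext
  refine Matrix.ext_of_mulVec_single fun i => ?_
  generalize (Pi.single i 1 : Fin m → K) = x
  change diagonal _ *ᵥ x = (_ * (_ * (_ * (_ * (_ * _))))) *ᵥ x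
  rw [← mulVec_mulVec, ← mulVec_mulVec, ← mulVec_mulVec, ← mulVec_mulVec, ← mulVec_mulVec]
  rw [tv_mulVec, tv_mulVec, tv_mulVec, tv_mulVec, tv_mulVec, tv_mulVec]
  have hu : (u : K) ≠ 0 := u.ne_zero
  funext k
  rw [mulVec_diagonal]
  by_cases hk : k = a
  · subst hk
    simp [Function.update_of_ne hab, Function.update_of_ne hab.symm]
    try field_simp
    try ring
  · by_cases hk' : k = b
    · subst hk'
      simp [Function.update_of_ne hab, Function.update_of_ne hab.symm, hk]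
      try field_simp
      try ring
    · simp [Function.update_of_ne, hk, hk']

end diag

/-! ### The image of the diagonal matrices -/

/-- the simple roots of the block -/
structure SimpB (D : ChevalleyDatum) (l n : ℕ) (r : Fin (n + 2) → Fin (n + 2) → ℕ) (j : Fin (n + 1) → Fin l) :
    Prop where
  up : ∀ a, r a.castSucc a.succ = D.simple (j a)
  dn : ∀ a, r a.succ a.castSucc = D.neg (D.simple (j a))

/-- the exponent of `lam b` in the character of the root `q` -/
def wt (D : ChevalleyDatum) {l n : ℕ} (j : Fin (n + 1) → Fin l) (q : ℕ) (b : Fin (n + 2)) : ℤ :=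
  ∑ a : Fin (n + 1), if b ≤ a.castSucc then D.cartan (j a) q else 0

variable {D : ChevalleyDatum} {l : ℕ} {M : CoxeterMatrix (Fin l)} (hp : IsType D l M)

section phi

variable {K : Type u} [Field K] {n : ℕ} {r : Fin (n + 2) → Fin (n + 2) → ℕ} {j : Fin (n + 1) → Fin l}
  (S : SimpB D l n r j)
  {φ : SpecialLinearGroup (Fin (n + 2)) K →* ↥(D.group K)} {s : Fin (n + 2) → Fin (n + 2) → K}
  (hφ : ∀ a b (hab : a ≠ b) c, φ (SpecialLinearGroup.transvection hab c) = xc hp (vec D l (r a b)) (s a b * c))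
  (hss : ∀ a : Fin (n + 1), s a.castSucc a.succ * s a.succ a.castSucc = 1)

include S hφ hss

theorem phi_hab (a : Fin (n + 1)) (u : Kˣ) : φ (hab' a.castSucc a.succ (cs_ne a) u) = hc hp (j a) (u : K) := by
  have e1 := vec_simple hp (j a)
  have e2 : vec D l (D.neg (D.simple (j a))) = -sr (j a) := by
    rw [vec_neg hp (simple_lt hp.inList (lt_rank hp (j a))), e1]
  have h1 := hss a
  rw [hab_word]
  simp only [map_mul]
  rw [hφ, hφ, hφ, hφ, S.up, S.dn, e1, e2]
  set s1 := s a.castSucc a.succ with hs1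
  set s2 := s a.succ a.castSucc with hs2
  have hs0 : s1 ≠ 0 := left_ne_zero_of_mul_eq_one h1
  have hs2' : s2 = s1⁻¹ := eq_inv_of_mul_eq_one_right h1
  rw [hs2', ← sl_uu, ← sl_uu, ← sl_vv, ← sl_vv, ← map_mul, ← map_mul, ← map_mul, ← map_mul, ← map_mul,
    ← sl_dd hp (j a) (u : K) u.ne_zero]
  congr 1
  have hu : (u : K) ≠ 0 := u.ne_zero
  apply Subtype.ext
  show !![1, s1 * (u : K); 0, 1] * (!![1, 0; s1⁻¹ * -((u : K)⁻¹), 1] * (!![1, s1 * (u : K); 0, 1] *
    (!![1, s1 * -1; 0, 1] * (!![1, 0; s1⁻¹ * 1, 1] * !![1, s1 * -1; 0, 1])))) = !![(u : K), 0; 0, (u : K)⁻¹]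
  simp only [Matrix.mul_fin_two]
  congr 1
  ext i k
  fin_cases i <;> fin_cases k <;> simp <;> field_simp <;> ring

omit S hφ hss in
/-- the diagonal matrix with `μ_0, μ_1 / μ_0, ..` -/
def dl {m : ℕ} (μ : Fin (m + 1) → Kˣ) (b : Fin (m + 2)) : Kˣ :=
  (Fin.snoc (α := fun _ => Kˣ) μ 1 b) * (Fin.cons (α := fun _ => Kˣ) 1 μ b)⁻¹

omit S hφ hss in
theorem prod_dl {m : ℕ} (μ : Fin (m + 1) → Kˣ) : ∏ b, dl μ b = 1 := by
  unfold dl
  rw [Finset.prod_mul_distrib, Finset.prod_inv_distrib, Fin.prod_univ_castSucc, Fin.prod_univ_succ (n := m + 1)]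
  simp

omit S hφ hss in
theorem prod_coe {m : ℕ} {lam : Fin m → Kˣ} (h : ∏ b, lam b = 1) : ∏ b, ((lam b : Kˣ) : K) = 1 := by
  rw [← Units.coe_prod, h, Units.val_one]

omit S hφ hss in
theorem dl_mul {m : ℕ} (μ ν : Fin (m + 1) → Kˣ) : dl (μ * ν) = dl μ * dl ν := by
  funext b
  have h1 : (Fin.snoc (α := fun _ => Kˣ) (μ * ν) 1 b : Kˣ) =
      Fin.snoc (α := fun _ => Kˣ) μ 1 b * Fin.snoc (α := fun _ => Kˣ) ν 1 b := by
    refine Fin.lastCases ?_ (fun i => ?_) b
    · simp
    · simp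
  have h2 : (Fin.cons (α := fun _ => Kˣ) 1 (μ * ν) b : Kˣ) =
      Fin.cons (α := fun _ => Kˣ) 1 μ b * Fin.cons (α := fun _ => Kˣ) 1 ν b := by
    refine Fin.cases ?_ (fun i => ?_) b
    · simp
    · simp
  rw [Pi.mul_apply, dl, dl, dl, h1, h2, mul_inv]
  exact mul_mul_mul_comm _ _ _ _

omit S hφ hss in
theorem dl_one {m : ℕ} : dl (1 : Fin (m + 1) → Kˣ) = 1 := by
  have h := dl_mul (K := K) (m := m) 1 1
  rw [one_mul] at h
  exact left_eq_mul.1 h

omit S hφ hss in
theorem dl_single {m : ℕ} (a : Fin (m + 1)) (u : Kˣ) (b : Fin (m + 2)) :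
    dl (Pi.mulSingle a u) b = if b = a.castSucc then u else if b = a.succ then u⁻¹ else 1 := by
  have h1 : (Fin.snoc (α := fun _ => Kˣ) (Pi.mulSingle a u : Fin (m + 1) → Kˣ) 1 b : Kˣ) =
      if b = a.castSucc then u else 1 := by
    refine Fin.lastCases ?_ (fun i => ?_) b
    · rw [Fin.snoc_last, if_neg (Fin.castSucc_lt_last a).ne']
    · rw [Fin.snoc_castSucc, Pi.mulSingle_apply]
      simp only [Fin.castSucc_inj]
  have h2 : (Fin.cons (α := fun _ => Kˣ) 1 (Pi.mulSingle a u : Fin (m + 1) → Kˣ) b : Kˣ) =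
      if b = a.succ then u else 1 := by
    refine Fin.cases ?_ (fun i => ?_) b
    · rw [Fin.cons_zero, if_neg (Fin.succ_ne_zero a).symm]
    · rw [Fin.cons_succ, Pi.mulSingle_apply]
      simp only [Fin.succ_inj]
  rw [dl, h1, h2]
  by_cases h3 : b = a.castSucc
  · subst h3
    rw [if_pos rfl, if_pos rfl, if_neg (cs_ne a), inv_one, mul_one]
  · rw [if_neg h3, if_neg h3, one_mul]
    split_ifs <;> simp

omit S hφ hss in
theorem dgl_mul {m : ℕ} {lam lam' : Fin m → K} (h : ∏ b, lam b = 1) (h' : ∏ b, lam' b = 1)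
    (h'' : ∏ b, (lam * lam') b = 1) : dgl (lam * lam') h'' = dgl lam h * dgl lam' h' := by
  apply Subtype.ext
  change diagonal _ = diagonal _ * diagonal _
  rw [diagonal_mul_diagonal]
  rfl

omit S hφ hss in
theorem dgl_congr {m : ℕ} {lam lam' : Fin m → K} (e : lam = lam') (h : ∏ b, lam b = 1) (h' : ∏ b, lam' b = 1) :
    dgl lam h = dgl lam' h' := by
  subst e; rfl

theorem phi_dl (μ : Fin (n + 1) → Kˣ) :
    φ (dgl (fun b => ((dl μ b : Kˣ) : K)) (prod_coe (prod_dl μ))) ∈ TT D K ∧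
      ∀ q, (hq : q < D.nroots) → ch hp (vec D l q) (φ (dgl (fun b => ((dl μ b : Kˣ) : K)) (prod_coe (prod_dl μ)))) =
        ∏ a, ((μ a : Kˣ) : K) ^ D.cartan (j a) q := by
  refine Pi.mulSingle_induction (p := fun μ : Fin (n + 1) → Kˣ =>
    φ (dgl (fun b => ((dl μ b : Kˣ) : K)) (prod_coe (prod_dl μ))) ∈ TT D K ∧
      ∀ q, (hq : q < D.nroots) → ch hp (vec D l q) (φ (dgl (fun b => ((dl μ b : Kˣ) : K)) (prod_coe (prod_dl μ)))) =
        ∏ a, ((μ a : Kˣ) : K) ^ D.cartan (j a) q) μ ?_ ?_ ?_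
  · have h1 : dgl (fun b => ((dl (1 : Fin (n + 1) → Kˣ) b : Kˣ) : K)) (prod_coe (prod_dl 1)) = 1 := by
      apply Subtype.ext
      change diagonal _ = 1
      rw [← diagonal_one]
      congr 1
      funext b
      rw [dl_one]; rfl
    rw [h1, map_one]
    refine ⟨one_mem _, fun q hq => ?_⟩
    have h2 := map_one (chH hp (K := K) hq)
    change ch hp (vec D l q) (1 : ↥(D.group K)) = 1 at h2
    rw [h2]
    symm
    exact Finset.prod_eq_one fun a _ => by rw [Pi.one_apply, Units.val_one, _root_.one_zpow]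
  · rintro μ ν ⟨h1, h2⟩ ⟨h3, h4⟩
    have e : dgl (fun b => ((dl (μ * ν) b : Kˣ) : K)) (prod_coe (prod_dl (μ * ν))) =
        dgl (fun b => ((dl μ b : Kˣ) : K)) (prod_coe (prod_dl μ)) *
          dgl (fun b => ((dl ν b : Kˣ) : K)) (prod_coe (prod_dl ν)) := by
      apply Subtype.ext
      change diagonal _ = diagonal _ * diagonal _
      rw [diagonal_mul_diagonal]
      congr 1
      funext b
      rw [dl_mul, Pi.mul_apply, Units.val_mul]
    rw [e, map_mul]
    refine ⟨mul_mem h1 h3, fun q hq => ?_⟩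
    have h5 := map_mul (chH hp (K := K) hq) ⟨_, h1⟩ ⟨_, h3⟩
    change ch hp (vec D l q) _ = ch hp (vec D l q) _ * ch hp (vec D l q) _ at h5
    rw [show (((⟨_, h1⟩ : ↥(TT D K)) * (⟨_, h3⟩ : ↥(TT D K)) : ↥(TT D K)) : ↥(D.group K)) = _ * _ from rfl] at h5
    rw [h5, h2 q hq, h4 q hq, ← Finset.prod_mul_distrib]
    exact Finset.prod_congr rfl fun a _ => by rw [Pi.mul_apply, Units.val_mul, mul_zpow]
  · intro a u
    have e : dgl (fun b => ((dl (Pi.mulSingle a u) b : Kˣ) : K)) (prod_coe (prod_dl (Pi.mulSingle a u))) =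
        hab' a.castSucc a.succ (cs_ne a) u := by
      apply Subtype.ext
      change diagonal _ = diagonal _
      congr 1
      funext b
      rw [dl_single]
      split_ifs <;> simp
    rw [e, phi_hab hp S hφ hss]
    refine ⟨hc_mem hp (j a) u.ne_zero, fun q hq => ?_⟩
    rw [ch_hc hp (j a) u.ne_zero hq, Finset.prod_eq_single a]
    · rw [Pi.mulSingle_eq_same]
    · intro c _ hc
      rw [Pi.mulSingle_eq_of_ne hc, Units.val_one, _root_.one_zpow]
    · intro h; exact absurd (Finset.mem_univ a) h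

theorem phi_diag (lam : Fin (n + 2) → Kˣ) (hl : ∏ b, lam b = 1) :
    φ (dgl (fun b => ((lam b : Kˣ) : K)) (prod_coe hl)) ∈ TT D K ∧
      ∀ q, (hq : q < D.nroots) → ch hp (vec D l q) (φ (dgl (fun b => ((lam b : Kˣ) : K)) (prod_coe hl))) =
        ∏ b, ((lam b : Kˣ) : K) ^ wt D j q b := by
  set μ : Fin (n + 1) → Kˣ := fun a => ∏ b, if b ≤ a.castSucc then lam b else 1 with hμ
  have h1 : ∀ b : Fin (n + 2), (Fin.snoc (α := fun _ => Kˣ) μ 1 b : Kˣ) = ∏ c, if c ≤ b then lam c else 1 := by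
    intro b
    refine Fin.lastCases ?_ (fun i => ?_) b
    · rw [Fin.snoc_last, ← hl]
      exact Finset.prod_congr rfl fun c _ => by rw [if_pos (Fin.le_last c)]
    · rw [Fin.snoc_castSucc]
  have h2 : ∀ b : Fin (n + 2), (Fin.cons (α := fun _ => Kˣ) 1 μ b : Kˣ) = ∏ c, if c < b then lam c else 1 := by
    intro b
    refine Fin.cases ?_ (fun i => ?_) b
    · rw [Fin.cons_zero]
      symm
      exact Finset.prod_eq_one fun c _ => by rw [if_neg (Fin.not_lt_zero c)]
    · rw [Fin.cons_succ, hμ]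
      refine Finset.prod_congr rfl fun c _ => ?_
      have : (c ≤ i.castSucc) ↔ (c < i.succ) := Fin.le_castSucc_iff
      simp only [this]
  have h3 : dl μ = lam := by
    funext b
    rw [dl, h1, h2]
    have h4 : (∏ c, if c ≤ b then lam c else 1) = (∏ c, if c < b then lam c else 1) * lam b := by
      have h5 : ∀ c, (if c ≤ b then lam c else 1) = (if c < b then lam c else 1) * (if c = b then lam c else 1) := by
        intro c
        rcases lt_trichotomy c b with h | h | h
        · rw [if_pos h.le, if_pos h, if_neg h.ne, mul_one]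
        · subst h
          rw [if_pos le_rfl, if_neg (lt_irrefl _), if_pos rfl, one_mul]
        · rw [if_neg (not_le.2 h), if_neg (not_lt.2 h.le), if_neg h.ne', one_mul]
      rw [Finset.prod_congr rfl fun c _ => h5 c, Finset.prod_mul_distrib]
      congr 1
      rw [Finset.prod_ite_eq' Finset.univ b lam, if_pos (Finset.mem_univ b)]
    rw [h4, mul_comm, inv_mul_cancel_left]
  obtain ⟨h4, h5⟩ := phi_dl hp S hφ hss μ
  have e : dgl (fun b => ((dl μ b : Kˣ) : K)) (prod_coe (prod_dl μ)) = dgl (fun b => ((lam b : Kˣ) : K)) (prod_coe hl) := by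
    apply Subtype.ext
    change diagonal _ = diagonal _
    rw [h3]
  rw [e] at h4 h5
  refine ⟨h4, fun q hq => ?_⟩
  rw [h5 q hq]
  have h6 : ∀ a, ((μ a : Kˣ) : K) ^ D.cartan (j a) q =
      ∏ b, ((lam b : Kˣ) : K) ^ (if b ≤ a.castSucc then D.cartan (j a) q else 0) := by
    intro a
    rw [hμ, Units.coe_prod, ← Finset.prod_zpow]
    refine Finset.prod_congr rfl fun b _ => ?_
    split_ifs
    · rfl
    · rw [Units.val_one, _root_.one_zpow, zpow_zero]
  rw [Finset.prod_congr rfl fun a _ => h6 a, Finset.prod_comm]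
  refine Finset.prod_congr rfl fun b _ => ?_
  have h7 : ∀ (t : Finset (Fin (n + 1))) (g : Fin (n + 1) → ℤ), ∏ a ∈ t, ((lam b : Kˣ) : K) ^ g a =
      ((lam b : Kˣ) : K) ^ ∑ a ∈ t, g a := by
    intro t g
    classical
    induction t using Finset.induction_on with
    | empty => simp
    | insert a t ha ih => rw [Finset.prod_insert ha, Finset.sum_insert ha, zpow_add₀ (lam b).ne_zero, ih]
  exact h7 _ _

end phi

end Cfsg.Agent.H482.Ore.Fix
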