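import Cfsg.Agent.H482.Ore.Block

/-!
# Fixed points of `s₀ φ(X) u`, `X ∈ SL₃(K)` with irreducible characteristic polynomial (S2443, S4171)

* `Dz.pow`, `Dz.nf_u` : elements `c u`, `u` of order `p` commuting with `c`;
* `nf_irr`, `nf_irr_u` : `X ∈ SL₃(K)` with irreducible characteristic polynomial.
-/

set_option autoImplicit false
set_option linter.unusedSectionVars false

namespace Cfsg.Agent.H482.Ore.Fix

open CoxeterSystem Cfsg.Agent.ChevalleyStructure.CoxeterGeom Cfsg.Agent.Tits.Roots Cfsg.Agent.Tits.Core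
  Cfsg.Agent.Nodes.Reps Cfsg.Agent.Nodes.BNOf Cfsg.Agent.Nodes.RGDLib Cfsg.Agent.Nodes.Bruhat
  Cfsg.Agent.Nodes.OppDec Cfsg.Agent.Nodes.LeviDec Cfsg.Agent.Nodes.KindChev Cfsg.Agent.Nodes.ChevCls
  Cfsg.Agent.OddHalf.NI.Mult Cfsg.Agent.OddHalf.NI.ModelChev
  Cfsg.Agent.H162.GaussDec Cfsg.Agent.H162.GaussLevi Cfsg.Agent.H162.GaussSL Cfsg.Agent.H162.GaussReg
  Cfsg.Agent.H162.GaussMain Cfsg.Agent.H162.GaussPQ Cfsg.Agent.H162.GaussExc
open Cfsg.Lie Cfsg.Agent.ChevalleyStructure Cfsg.Agent.ChevalleyStructure.Elts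
  Cfsg.Agent.ChevalleyStructure.RootVec Cfsg.Agent.ChevalleyStructure.NPerm
  Cfsg.Agent.ChevalleyStructure.CoxeterGeomTypes Cfsg.Agent.Nodes.RGDChev Cfsg.Agent.KFacts.RgdChevCoord
open Cfsg.Agent.H928.Ore.Frame Matrix

universe u v

variable {D : ChevalleyDatum} {l : ℕ} {M : CoxeterMatrix (Fin l)} (hp : IsType D l M)

section pow

variable {K : Type u} {K' : Type v} [Field K] [Field K'] {f : K →+* K'} {J : Set (Fin l)}

theorem ch_pow {q : ℕ} (hq : q < D.nroots) {a : ↥(D.group K)} (ha : a ∈ TT D K) (k : ℕ) :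
    ch hp (vec D l q) (a ^ k) = ch hp (vec D l q) a ^ k := by
  have h5 := map_pow (chH hp (K := K) hq) ⟨_, ha⟩ k
  exact h5

theorem Dz.pow {R : Subgroup ↥(D.group K')} {c : ↥(D.group K)} {χ : ℕ → K'} (h : Dz hp f J R c χ) (k : ℕ) :
    Dz hp f J R (c ^ k) (fun q => χ q ^ k) where
  mem := by
    rw [map_pow]
    exact pow_mem h.mem k
  ex := by
    obtain ⟨y, hy, hL, ht, hch⟩ := h.ex
    have e : y * bc D f (c ^ k) * y⁻¹ = (y * bc D f c * y⁻¹) ^ k := by
      rw [map_pow, conj_pow]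
    refine ⟨y, hy, hL, ?_, fun q hq => ?_⟩
    · rw [e]
      exact pow_mem ht k
    · rw [e, ch_pow hp hq ht, hch q hq]

/-- `c u`, `u` of order `p` commuting with `c` -/
theorem Dz.nf_u [Finite K'] (p : ℕ) [Fact p.Prime] [CharP K' p] {R : Subgroup ↥(D.group K')} {c u : ↥(D.group K)}
    {χ : ℕ → K'} (h : Dz hp f J R c χ) (hu : u ^ p = 1) (hc : c * u = u * c)
    (hout : ∀ q < D.nroots, (∃ k, k ∉ J ∧ vec D l q k ≠ 0) → χ q ≠ 1) :
    NF (VJ M.toCoxeterSystem hp.isCartan (XX D l K) J) (c * u) ∧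
      NF (VNJ M.toCoxeterSystem hp.isCartan (XX D l K) J) (c * u) := by
  have h1 : (c * u) ^ p = c ^ p := by
    rw [(show Commute c u from hc).mul_pow, hu, mul_one]
  obtain ⟨h2, h3⟩ := (h.pow hp p).nf hp p (fun q hq hk h4 => hout q hq hk (by
    have h5 : χ q ^ p = 1 ^ p := by rw [h4, one_pow]
    exact frobenius_inj K' p h5))
  rw [← h1] at h2 h3
  exact ⟨NF.of_pow p h2, NF.of_pow p h3⟩

end pow

section irr

variable {K : Type} [Field K] [Finite K] {J : Set (Fin l)}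

/-- the splitting field of an irreducible characteristic polynomial of degree 3 -/
theorem exists_split {X : SpecialLinearGroup (Fin 3) K} (hX : Irreducible (X : Matrix (Fin 3) (Fin 3) K).charpoly) :
    ∃ (K' : Type) (_ : Field K') (_ : Finite K') (f : K →+* K') (lam : Fin 3 → K') (g : GL (Fin 3) K'),
      (∀ b, lam b ∉ Set.range f) ∧ (X : Matrix (Fin 3) (Fin 3) K).map f = (g : Matrix (Fin 3) (Fin 3) K') *
        diagonal lam * ((g⁻¹ : GL (Fin 3) K') : Matrix (Fin 3) (Fin 3) K') := by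
  classical
  have : Fintype K := Fintype.ofFinite K
  have : Fact (Irreducible (X : Matrix (Fin 3) (Fin 3) K).charpoly) := ⟨hX⟩
  have hm : (X : Matrix (Fin 3) (Fin 3) K).charpoly.Monic := charpoly_monic _
  have : Module.Finite K (AdjoinRoot (X : Matrix (Fin 3) (Fin 3) K).charpoly) :=
    (AdjoinRoot.powerBasis hX.ne_zero).finite
  have : Finite (AdjoinRoot (X : Matrix (Fin 3) (Fin 3) K).charpoly) := Module.finite_of_finite K
  have h1 : minpoly K (AdjoinRoot.root (X : Matrix (Fin 3) (Fin 3) K).charpoly) =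
      (X : Matrix (Fin 3) (Fin 3) K).charpoly := by
    rw [AdjoinRoot.minpoly_root hX.ne_zero, hm.leadingCoeff, inv_one, Polynomial.C_1, mul_one]
  have h2 : (X : Matrix (Fin 3) (Fin 3) K).charpoly.natDegree = 3 := by
    rw [charpoly_natDegree_eq_dim, Fintype.card_fin]
  obtain ⟨g, hg⟩ := Cfsg.Agent.H934.MF.diag_irr (K := K)
    (L := AdjoinRoot (X : Matrix (Fin 3) (Fin 3) K).charpoly) (n := 3)
    (z := AdjoinRoot.root (X : Matrix (Fin 3) (Fin 3) K).charpoly) (by rw [h1, h2]) X.1 h1.symm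
  refine ⟨AdjoinRoot (X : Matrix (Fin 3) (Fin 3) K).charpoly, inferInstance, inferInstance,
    algebraMap K _, _, g, ?_, hg⟩
  rintro b ⟨k, hk⟩
  have h3 := Cfsg.Agent.H934.MF.root_pow (K := K) (minpoly.aeval K
    (AdjoinRoot.root (X : Matrix (Fin 3) (Fin 3) K).charpoly)) (b : ℕ)
  rw [← hk, Polynomial.aeval_algebraMap_apply, Polynomial.coe_aeval_eq_eval,
    map_eq_zero_iff _ (algebraMap K (AdjoinRoot (X : Matrix (Fin 3) (Fin 3) K).charpoly)).injective, h1] at h3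
  have h4 := Polynomial.degree_eq_one_of_irreducible_of_root hX h3
  rw [Polynomial.degree_eq_natDegree hX.ne_zero, h2] at h4
  norm_num at h4

/-- the table of the roots outside `J` for a block of type `A_2` with the simple roots `i`, `j` -/
def Out (D : ChevalleyDatum) {l : ℕ} (i j : Fin l) (q : ℕ) : Prop :=
  (D.cartan i q = 1 ∧ D.cartan j q = 0) ∨ (D.cartan i q = -1 ∧ D.cartan j q = 0) ∨
  (D.cartan i q = 0 ∧ D.cartan j q = 1) ∨ (D.cartan i q = 0 ∧ D.cartan j q = -1) ∨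
  (D.cartan i q = -1 ∧ D.cartan j q = 1) ∨ (D.cartan i q = 1 ∧ D.cartan j q = -1)

instance (D : ChevalleyDatum) {l : ℕ} (i j : Fin l) (q : ℕ) : Decidable (Out D i j q) := by
  unfold Out; infer_instance

/-- the data of a block of type `A_2` -/
structure B3 {D : ChevalleyDatum} {l : ℕ} {M : CoxeterMatrix (Fin l)} (hp : IsType D l M) (J : Set (Fin l))
    (r : Fin 3 → Fin 3 → ℕ) (ε : ℤ) (i j : Fin l) : Prop where
  hε : ε * ε = 1
  hi : r 0 1 = D.simple i
  hj : r 1 2 = D.simple j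
  hi' : r 1 0 = D.neg (D.simple i)
  hj' : r 2 1 = D.neg (D.simple j)
  rlt : ∀ a b, a ≠ b → r a b < D.nroots
  rJ : ∀ a b, a ≠ b → ∀ k, k ∉ J → vec D l (r a b) k = 0
  hΦ : ∀ (F : Type) [Field F], ∃ φ : SpecialLinearGroup (Fin 3) F →* ↥(D.group F), ∀ a b (hab : a ≠ b) c,
    φ (SpecialLinearGroup.transvection hab c) = xc hp (vec D l (r a b)) ((ε : F) * c)

variable {r : Fin 3 → Fin 3 → ℕ} {ε : ℤ} {i j : Fin l} (B : B3 hp J r ε i j)
  {φ : SpecialLinearGroup (Fin 3) K →* ↥(D.group K)}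
  (hφ : ∀ a b (hab : a ≠ b) c,
    φ (SpecialLinearGroup.transvection hab c) = xc hp (vec D l (r a b)) ((ε : K) * c))
  {s₀ : ↥(D.group K)} (h0 : s₀ ∈ TT D K) (h1 : ∀ a b, a ≠ b → ch hp (vec D l (r a b)) s₀ = 1)
  {X : SpecialLinearGroup (Fin 3) K} (hX : Irreducible (X : Matrix (Fin 3) (Fin 3) K).charpoly)
  (ht : ∀ q < D.nroots, (∃ k, k ∉ J ∧ vec D l q k ≠ 0) →
    (D.cartan i q = 0 ∧ D.cartan j q = 0 ∧ ch hp (vec D l q) s₀ ≠ 1) ∨ Out D i j q)

include B hφ h0 h1 hX ht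

theorem exists_dz : ∃ (K' : Type) (_ : Field K') (_ : Finite K') (f : K →+* K') (R : Subgroup ↥(D.group K'))
    (χ : ℕ → K'), Dz hp f J R (s₀ * φ X) χ ∧ ∀ q < D.nroots, (∃ k, k ∉ J ∧ vec D l q k ≠ 0) → χ q ≠ 1 := by
  obtain ⟨K', _, _, f, lam, g, hl, hg⟩ := exists_split hX
  obtain ⟨φ', hφ'⟩ := B.hΦ K'
  have BB : Bk hp f J 1 r ![i, j] φ φ' (fun _ _ => (ε : K)) := {
    simp := ⟨fun a => by
        fin_cases a
        · exact B.hi
        · exact B.hj, fun a => by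
        fin_cases a
        · exact B.hi'
        · exact B.hj'⟩
    rlt := B.rlt
    rJ := B.rJ
    hφ := hφ
    hφ' := fun a b hab c => by rw [hφ' a b hab c, map_intCast]
    ss := fun a => by rw [← Int.cast_mul, B.hε, Int.cast_one] }
  refine ⟨K', inferInstance, inferInstance, f, _, _,
    (Dz.torus hp h0).mul hp (BB.dz hp hg) (BB.comm_range hp h0 h1), fun q hq hk => ?_⟩
  change f (ch hp (vec D l q) s₀) * ∏ b, lam b ^ wt D ![i, j] q b ≠ 1
  have hlp : ∏ b, lam b = 1 := (BB.conj hp hg).1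
  rw [Fin.prod_univ_three] at hlp
  have hw0 : wt D ![i, j] q (0 : Fin 3) = D.cartan i q + D.cartan j q := by
    unfold wt
    rw [Fin.sum_univ_two]
    rfl
  have hw1 : wt D ![i, j] q (1 : Fin 3) = D.cartan j q := by
    unfold wt
    rw [Fin.sum_univ_two]
    exact zero_add _
  have hw2 : wt D ![i, j] q (2 : Fin 3) = 0 := by
    unfold wt
    rw [Fin.sum_univ_two]
    exact add_zero _
  have hn : ∀ b, lam b ≠ 0 := fun b hb => hl b ⟨0, by rw [map_zero, hb]⟩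
  have hne : ∀ b (c : K), f c * lam b ≠ 1 := by
    intro b c h
    apply hl b
    refine ⟨c⁻¹, ?_⟩
    rw [map_inv₀]
    exact (eq_inv_of_mul_eq_one_right h).symm
  have hne' : ∀ b (c : K), f c * (lam b)⁻¹ ≠ 1 := by
    intro b c h
    apply hl b
    refine ⟨c, ?_⟩
    exact (mul_inv_eq_one₀ (hn b)).1 h
  rw [Fin.prod_univ_three, hw0, hw1, hw2, zpow_zero, mul_one]
  have e2 : lam 0 * lam 1 = (lam 2)⁻¹ := eq_inv_of_mul_eq_one_left hlp
  rcases ht q hq hk with ⟨h3, h4, h5⟩ | ⟨h3, h4⟩ | ⟨h3, h4⟩ | ⟨h3, h4⟩ | ⟨h3, h4⟩ | ⟨h3, h4⟩ | ⟨h3, h4⟩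
  · rw [h3, h4, add_zero, zpow_zero, zpow_zero, mul_one, mul_one]
    intro h6
    exact h5 (f.injective (by rw [h6, map_one]))
  · rw [h3, h4, add_zero, zpow_one, zpow_zero, mul_one]
    exact hne 0 _
  · rw [h3, h4, add_zero, _root_.zpow_neg_one, zpow_zero, mul_one]
    exact hne' 0 _
  · rw [h3, h4, zero_add, zpow_one, zpow_one, e2]
    exact hne' 2 _
  · rw [h3, h4, zero_add, ← mul_zpow, e2, _root_.zpow_neg_one, inv_inv]
    exact hne 2 _
  · rw [h3, h4, neg_add_cancel, zpow_one, zpow_zero, one_mul]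
    exact hne 1 _
  · rw [h3, h4, add_neg_cancel, _root_.zpow_neg_one, zpow_zero, one_mul]
    exact hne' 1 _

/-- **No fixed points of `s₀ φ(X)`.** -/
theorem nf_irr : NF (VJ M.toCoxeterSystem hp.isCartan (XX D l K) J) (s₀ * φ X) ∧
    NF (VNJ M.toCoxeterSystem hp.isCartan (XX D l K) J) (s₀ * φ X) := by
  obtain ⟨K', _, _, f, R, χ, h2, h3⟩ := exists_dz hp B hφ h0 h1 hX ht
  obtain ⟨p, hpc⟩ := CharP.exists K'
  have : Fact p.Prime := ⟨(CharP.char_is_prime_or_zero K' p).resolve_right (CharP.char_ne_zero_of_finite K' p)⟩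
  exact h2.nf hp p h3

/-- **No fixed points of `s₀ φ(X) u`.** -/
theorem nf_irr_u (p : ℕ) [Fact p.Prime] [CharP K p] {u : ↥(D.group K)} (hu : u ^ p = 1)
    (hc : s₀ * φ X * u = u * (s₀ * φ X)) :
    NF (VJ M.toCoxeterSystem hp.isCartan (XX D l K) J) (s₀ * φ X * u) ∧
      NF (VNJ M.toCoxeterSystem hp.isCartan (XX D l K) J) (s₀ * φ X * u) := by
  obtain ⟨K', _, _, f, R, χ, h2, h3⟩ := exists_dz hp B hφ h0 h1 hX ht
  have : CharP K' p := charP_of_injective_ringHom f.injective p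
  exact h2.nf_u hp p hu hc h3

end irr

end Cfsg.Agent.H482.Ore.Fix
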